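/-
Recognising a section `Qd(p)`.
* `involves_qd_of_pair` : `w, v` commuting of order dividing `p`, `w ≠ 1`, and `a, b` acting on them as
  the two transvections: then `Qd(p)` is involved.
-/
import Cfsg.Agent.Lib.Qd.Basic
import Cfsg.Agent.Lib.Involves.Basic
import Cfsg.Agent.Lib.Linear.GenTools

set_option autoImplicit false

namespace Cfsg.Agent.QdCrit


universe u

variable {G : Type u} [Group G] {p : ℕ} [Fact p.Prime]

local notation "SL2p" => Matrix.SpecialLinearGroup (Fin 2) (ZMod p)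

/-- The matrix action on pairs. -/
def act (M : SL2p) (x : ZMod p × ZMod p) : ZMod p × ZMod p :=
  (M.1 0 0 * x.1 + M.1 0 1 * x.2, M.1 1 0 * x.1 + M.1 1 1 * x.2)

theorem act_mul (M N : SL2p) (x : ZMod p × ZMod p) : act (M * N) x = act M (act N x) := by
  unfold act
  simp only [Matrix.SpecialLinearGroup.coe_mul, Matrix.mul_apply, Fin.sum_univ_two]
  ext <;> ring

theorem act_one (x : ZMod p × ZMod p) : act (1 : SL2p) x = x := by
  simp [act]

theorem act_injective {M N : SL2p} (h : ∀ x, act M x = act N x) : M = N := by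
  refine Subtype.ext (Matrix.ext fun i j => ?_)
  have h0 := h (1, 0)
  have h1 := h (0, 1)
  simp only [act, mul_one, mul_zero, add_zero, zero_add, Prod.mk.injEq] at h0 h1
  fin_cases i <;> fin_cases j
  exacts [h0.1, h1.1, h0.2, h1.2]

theorem act_add (M : SL2p) (x y : ZMod p × ZMod p) : act M (x + y) = act M x + act M y := by
  unfold act
  ext <;> simp <;> ring

theorem pow_val_add {w : G} (hw : w ^ p = 1) (i j : ZMod p) :
    w ^ (i + j).val = w ^ i.val * w ^ j.val := by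
  rw [ZMod.val_add, ← pow_eq_pow_mod _ hw, pow_add]

/-- The pairs: a group element with its matrix on the image of `τ`. -/
def graph (τ : ZMod p × ZMod p → G) : Subgroup (G × SL2p) where
  carrier := {q | ∀ x, q.1 * τ x * q.1⁻¹ = τ (act q.2 x)}
  one_mem' := fun x => by
    show (1 : G) * τ x * 1⁻¹ = τ (act (1 : SL2p) x)
    rw [one_mul, inv_one, mul_one, act_one]
  mul_mem' := fun {q r} hq hr x => by
    show (q.1 * r.1) * τ x * (q.1 * r.1)⁻¹ = τ (act (q.2 * r.2) x)
    rw [act_mul, ← hq, ← hr]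
    group
  inv_mem' := fun {q} hq x => by
    show q.1⁻¹ * τ x * q.1⁻¹⁻¹ = τ (act q.2⁻¹ x)
    have h := hq (act q.2⁻¹ x)
    rw [← act_mul, mul_inv_cancel, act_one] at h
    rw [← h]
    group

/-- The core: translations `τ` inverted by a lift of `-1`. -/
theorem involves_qd_of_tau [Finite G] (hp : p ≠ 2) (π : G →* SL2p) (hπ : Function.Surjective π)
    (τ : ZMod p × ZMod p → G) (hadd : ∀ x y, τ (x + y) = τ x * τ y) (hinj : Function.Injective τ)
    (hker : ∀ x, π (τ x) = 1) (hconj : ∀ g x, g * τ x * g⁻¹ = τ (act (π g) x)) :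
    Cfsg.Involves ↥(Cfsg.qd p) G := by
  classical
  haveI : Fact (Nat.Prime 2) := ⟨Nat.prime_two⟩
  have hτ0 : τ 0 = 1 := by
    have := hadd 0 0
    rw [add_zero] at this
    exact left_eq_mul.1 this
  have hτneg : ∀ x, τ (-x) = (τ x)⁻¹ := fun x => by
    rw [eq_inv_iff_mul_eq_one, ← hadd, neg_add_cancel, hτ0]
  set Z : Subgroup SL2p := Subgroup.zpowers (-1)
  have hZn : Z.Normal := ⟨fun x hx g => by
    have hc : g * x = x * g := by
      obtain ⟨k, rfl⟩ := hx
      exact ((Commute.neg_one_right g).zpow_right k).eq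
    rw [hc, mul_inv_cancel_right]; exact hx⟩
  set M := Z.comap π
  haveI : M.Normal := hZn.comap π
  obtain ⟨S⟩ : Nonempty (Sylow 2 ↥M) := inferInstance
  set D := Subgroup.normalizer (((S : Subgroup ↥M).map M.subtype : Subgroup G) : Set G) with hD
  -- the image of `S` contains `-1`
  have hS : ∃ s ∈ (S : Subgroup ↥M), π (s : G) = -1 := by
    have hs := π.subgroupComap_surjective_of_surjective Z hπ
    have hZ2 : IsPGroup 2 ↥Z := by
      intro z
      refine ⟨1, Subtype.ext ?_⟩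
      obtain ⟨k, hk⟩ := z.2
      rw [pow_one, SubgroupClass.coe_pow, ← hk, ← zpow_natCast, ← zpow_mul, mul_comm, zpow_mul,
        zpow_natCast, neg_one_sq, one_zpow]
      rfl
    have htop : ((S.mapSurjective hs : Sylow 2 ↥Z) : Subgroup ↥Z) = ⊤ :=
      ((S.mapSurjective hs).3 (hZ2.to_subgroup ⊤) le_top).symm
    have h1 : (⟨-1, Subgroup.mem_zpowers _⟩ : ↥Z) ∈ ((S.mapSurjective hs : Sylow 2 ↥Z) : Subgroup ↥Z) :=
      htop ▸ Subgroup.mem_top _
    rw [Sylow.coe_mapSurjective] at h1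
    obtain ⟨s, hs', he⟩ := h1
    exact ⟨s, hs', congrArg Subtype.val he⟩
  obtain ⟨s₀, hs₀, hπs₀⟩ := hS
  have hπD : ∀ m : SL2p, ∃ d ∈ D, π d = m := by
    intro m
    obtain ⟨g, rfl⟩ := hπ m
    have hg : g ∈ ((D ⊔ M : Subgroup G) : Set G) := by
      rw [hD, Sylow.normalizer_sup_eq_top S]; trivial
    rw [Subgroup.mul_normal] at hg
    obtain ⟨d, hd, c, hc, rfl⟩ := Set.mem_mul.1 hg
    obtain ⟨k, hk⟩ := (hc : π c ∈ Z)
    refine ⟨d * (s₀ : G) ^ k, mul_mem hd (zpow_mem (Subgroup.le_normalizer ?_) k), ?_⟩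
    · exact Subgroup.mem_map_of_mem _ hs₀
    · rw [map_mul, map_mul, map_zpow, hπs₀, ← (hk : (-1 : SL2p) ^ k = π c)]
  have huniq : ∀ x, τ x ∈ D → x = 0 := by
    intro x hx
    have hmem : τ x * (s₀ : G) * (τ x)⁻¹ * (s₀ : G)⁻¹ ∈ (S : Subgroup ↥M).map M.subtype :=
      mul_mem ((Subgroup.mem_normalizer_iff.1 hx _).1 (Subgroup.mem_map_of_mem _ hs₀))
        (inv_mem (Subgroup.mem_map_of_mem _ hs₀))
    have he : τ x * (s₀ : G) * (τ x)⁻¹ * (s₀ : G)⁻¹ = τ (x + x) := by
      have h1 := hconj (s₀ : G) (-x)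
      rw [hπs₀, show act (-1 : SL2p) (-x) = x by
        ext <;> simp [act, Matrix.SpecialLinearGroup.coe_neg]] at h1
      rw [hadd, ← hτneg]
      calc τ x * (s₀ : G) * τ (-x) * (s₀ : G)⁻¹ = τ x * ((s₀ : G) * τ (-x) * (s₀ : G)⁻¹) := by group
        _ = τ x * τ x := by rw [h1]
    rw [he] at hmem
    obtain ⟨k, hk⟩ := (S.2.map M.subtype) ⟨_, hmem⟩
    have hk' : τ (x + x) ^ 2 ^ k = 1 := congrArg Subtype.val hk
    have hpow : ∀ (n : ℕ) y, τ y ^ n = τ (n • y) := by
      intro n y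
      induction n with
      | zero => rw [pow_zero, zero_smul, hτ0]
      | succ n ih => rw [pow_succ, ih, succ_nsmul, hadd]
    rw [hpow, ← hτ0] at hk'
    have h0 := hinj hk'
    rw [← two_nsmul, ← mul_nsmul] at h0
    have hunit : ((2 * 2 ^ k : ℕ) : ZMod p) ≠ 0 := by
      rw [Ne, ZMod.natCast_eq_zero_iff, ← pow_succ']
      exact fun h => hp ((Nat.prime_dvd_prime_iff_eq Fact.out Nat.prime_two).1
        ((Fact.out : p.Prime).dvd_of_dvd_pow h))
    have h0' : ((2 * 2 ^ k : ℕ) : ZMod p) * x.1 = 0 ∧ ((2 * 2 ^ k : ℕ) : ZMod p) * x.2 = 0 := by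
      have := Prod.ext_iff.1 h0
      simpa [nsmul_eq_mul] using this
    exact Prod.ext ((mul_eq_zero.1 h0'.1).resolve_left hunit)
      ((mul_eq_zero.1 h0'.2).resolve_left hunit)
  -- the subgroup `τ(·) D`
  have hprod : ∀ x y d, τ x * d * (τ y) = τ (x + act (π d) y) * d := by
    intro x y d
    rw [hadd, ← hconj]
    group
  let E : Subgroup G :=
    { carrier := {g | ∃ x, ∃ d ∈ D, g = τ x * d}
      one_mem' := ⟨0, 1, one_mem D, by rw [hτ0, one_mul]⟩
      mul_mem' := by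
        rintro _ _ ⟨x, d, hd, rfl⟩ ⟨y, d', hd', rfl⟩
        exact ⟨_, d * d', mul_mem hd hd', by rw [← mul_assoc, hprod, mul_assoc]⟩
      inv_mem' := by
        rintro _ ⟨x, d, hd, rfl⟩
        refine ⟨act (π d⁻¹) (-x), d⁻¹, inv_mem hd, ?_⟩
        rw [← hconj, hτneg, inv_inv, mul_inv_rev]
        group }
  have hE : ∀ g : ↥E, ∃ x, ∃ d ∈ D, (g : G) = τ x * d := fun g => g.2
  choose cx cd hcd hcxd using hE
  have hcu : ∀ (g : ↥E) (x : ZMod p × ZMod p) (d : G), d ∈ D → (g : G) = τ x * d → cx g = x := by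
    intro g x d hd he
    have h1 : τ (-x + cx g) = d * (cd g)⁻¹ := by
      have h2 := (hcxd g).symm.trans he
      calc τ (-x + cx g) = (τ x)⁻¹ * (τ (cx g) * cd g) * (cd g)⁻¹ := by rw [hadd, hτneg]; group
        _ = d * (cd g)⁻¹ := by rw [h2]; group
    have h3 := huniq _ (h1 ▸ mul_mem hd (inv_mem (hcd g)))
    rwa [neg_add_eq_zero, eq_comm] at h3
  let F : ↥E → ↥(Cfsg.qd p) := fun g =>
    Qd.el p ((π (g : G)).1 0 0) ((π (g : G)).1 0 1) ((π (g : G)).1 1 0) ((π (g : G)).1 1 1)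
      (cx g).1 (cx g).2 (by have := (π (g : G)).2; rwa [Matrix.det_fin_two] at this)
  have hπE : ∀ g : ↥E, π (g : G) = π (cd g) := fun g => by
    rw [hcxd g, map_mul, hker, one_mul]
  let f : ↥E →* ↥(Cfsg.qd p) := MonoidHom.mk' F fun g h => by
    have hcx : cx (g * h) = cx g + act (π (g : G)) (cx h) := by
      refine hcu _ _ (cd g * cd h) (mul_mem (hcd g) (hcd h)) ?_
      rw [Subgroup.coe_mul, hπE g, hcxd g, hcxd h, ← mul_assoc, hprod, mul_assoc]
    simp only [F]
    rw [Qd.el_mul]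
    refine Qd.el_congr p ?_ ?_ ?_ ?_ ?_ ?_
    all_goals simp only [Subgroup.coe_mul, map_mul, Matrix.SpecialLinearGroup.coe_mul,
      Matrix.mul_apply, Fin.sum_univ_two, hcx, act, Prod.fst_add, Prod.snd_add]
    all_goals ring
  refine Involves.involves_of_hom f fun q => ?_
  obtain ⟨a, b, c, e, x, y, h, rfl⟩ := Qd.exists_el p q
  obtain ⟨d, hd, hπd⟩ := hπD ⟨!![a, b; c, e], by rw [Matrix.det_fin_two_of]; exact h⟩
  refine ⟨⟨τ (x, y) * d, (x, y), d, hd, rfl⟩, ?_⟩
  show F _ = _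
  have hc' := hcu ⟨τ (x, y) * d, (x, y), d, hd, rfl⟩ (x, y) d hd rfl
  simp only [F, hc']
  refine Qd.el_congr p ?_ ?_ ?_ ?_ rfl rfl
  all_goals (rw [show π (τ (x, y) * d) = π d by rw [map_mul, hker, one_mul], hπd]; simp)

/-- Recognition from four elements. -/
theorem involves_qd_of_pair [Finite G] (hp : p ≠ 2) {w v a b : G} (hw1 : w ≠ 1) (hw : w ^ p = 1)
    (hv : v ^ p = 1) (hwv : Commute w v) (haw : a * w * a⁻¹ = w) (hav : a * v * a⁻¹ = w * v)
    (hbw : b * w * b⁻¹ = w * v) (hbv : b * v * b⁻¹ = v) :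
    Cfsg.Involves ↥(Cfsg.qd p) G := by
  classical
  let τ : ZMod p × ZMod p → G := fun x => w ^ x.1.val * v ^ x.2.val
  have hadd : ∀ x y, τ (x + y) = τ x * τ y := by
    intro x y
    show w ^ (x.1 + y.1).val * v ^ (x.2 + y.2).val = _
    rw [pow_val_add hw, pow_val_add hv, (hwv.pow_pow y.1.val x.2.val).mul_mul_mul_comm]
  have hval1 : (1 : ZMod p).val = 1 := ZMod.val_one p
  have hord : orderOf w = p := orderOf_eq_prime hw hw1
  have hzero : ∀ x, τ x = 1 → x = 0 := by
    intro x hx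
    have h1 : a * τ x * a⁻¹ = 1 := by rw [hx, mul_one, mul_inv_cancel]
    have h2 : a * τ x * a⁻¹ = w ^ x.2.val * τ x := by
      show a * (w ^ x.1.val * v ^ x.2.val) * a⁻¹ = w ^ x.2.val * (w ^ x.1.val * v ^ x.2.val)
      rw [conj_mul.symm, ← conj_pow, ← conj_pow, haw, hav, hwv.mul_pow, ← mul_assoc, ← pow_add,
        add_comm, pow_add, mul_assoc]
    rw [h1, hx, mul_one] at h2
    have hz : ∀ i : ZMod p, w ^ i.val = 1 → i = 0 := fun i hi => by
      have := orderOf_dvd_of_pow_eq_one hi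
      rw [hord] at this
      exact (ZMod.val_eq_zero i).1 (Nat.eq_zero_of_dvd_of_lt this (ZMod.val_lt i))
    have hx2 := hz _ h2.symm
    have hx' : w ^ x.1.val * v ^ x.2.val = 1 := hx
    rw [hx2, ZMod.val_zero, pow_zero, mul_one] at hx'
    exact Prod.ext (hz _ hx') hx2
  have hinj : Function.Injective τ := fun x y hxy => by
    have : τ (x - y) * τ y = τ x := by rw [← hadd, sub_add_cancel]
    rw [← hxy, mul_eq_right] at this
    exact sub_eq_zero.1 (hzero _ this)
  let U : SL2p := Matrix.SpecialLinearGroup.transvection (zero_ne_one' (Fin 2)) 1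
  let L : SL2p := Matrix.SpecialLinearGroup.transvection (zero_ne_one' (Fin 2)).symm 1
  have haU : ((a, U) : G × SL2p) ∈ graph τ := by
    intro x
    show a * (w ^ x.1.val * v ^ x.2.val) * a⁻¹ = τ (act U x)
    rw [show act U x = (x.1 + x.2, x.2) by
      simp [U, act, Matrix.SpecialLinearGroup.transvection, Matrix.transvection, Matrix.single],
      conj_mul.symm, ← conj_pow, ← conj_pow, haw, hav, hwv.mul_pow, ← mul_assoc, ← pow_val_add hw]
  have hbL : ((b, L) : G × SL2p) ∈ graph τ := by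
    intro x
    show b * (w ^ x.1.val * v ^ x.2.val) * b⁻¹ = τ (act L x)
    rw [show act L x = (x.1, x.1 + x.2) by
      simp [L, act, Matrix.SpecialLinearGroup.transvection, Matrix.transvection, Matrix.single],
      conj_mul.symm, ← conj_pow, ← conj_pow, hbw, hbv, hwv.mul_pow, mul_assoc, ← pow_val_add hv]
  have hτg : ∀ y, ((τ y, 1) : G × SL2p) ∈ graph τ := fun y x => by
    show τ y * τ x * (τ y)⁻¹ = τ (act (1 : SL2p) x)
    rw [act_one, ← hadd, add_comm, hadd, mul_inv_cancel_right]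
  let P : Subgroup (G × SL2p) := graph τ
  have hfst : Function.Injective ((MonoidHom.fst G SL2p).comp P.subtype) := by
    rintro ⟨⟨g, m⟩, hm⟩ ⟨⟨g', m'⟩, hm'⟩ he
    change g = g' at he
    subst he
    refine Subtype.ext (Prod.ext rfl (act_injective fun x => hinj ?_))
    exact (hm x).symm.trans (hm' x)
  have hsurj : Function.Surjective ((MonoidHom.snd G SL2p).comp P.subtype) := by
    rw [← MonoidHom.range_eq_top, eq_top_iff, ← Linear.closure_slTwo_prime p, Subgroup.closure_le]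
    rintro _ (rfl | rfl)
    · exact ⟨⟨_, haU⟩, rfl⟩
    · exact ⟨⟨_, hbL⟩, rfl⟩
  haveI : Finite ↥P := Finite.of_injective _ hfst
  have hinv : Cfsg.Involves ↥(Cfsg.qd p) ↥P :=
    involves_qd_of_tau hp _ hsurj (fun y => ⟨_, hτg y⟩) (fun x y => Subtype.ext (Prod.ext (hadd x y)
      (one_mul 1).symm)) (fun x y h => hinj (congrArg (fun q : ↥P => (q : G × SL2p).1) h))
      (fun _ => rfl) (fun g x => Subtype.ext (Prod.ext (g.2 x) (by
        show (g : G × SL2p).2 * 1 * (g : G × SL2p).2⁻¹ = 1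
        rw [mul_one, mul_inv_cancel])))
  exact Involves.involves_of_subgroup
    (Involves.involves_of_surjective (MonoidHom.ofInjective hfst).symm.toMonoidHom
      (MonoidHom.ofInjective hfst).symm.surjective hinv)

end Cfsg.Agent.QdCrit
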