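/-
Failure of `p`-stability gives a section `Qd(p)`.
* `exists_intertwining` : an irreducible quadratic pair lives on a two dimensional space
* `exists_standard_pair` : copies of the two transvections of `SL₂(p)` inside `SL₂(K)`
* `involves_qd_of_not_stable`, `not_stable_qd`
-/
import Cfsg.Agent.Lib.QdCrit.Basic
import Cfsg.Agent.Lib.Quadratic.Stable
import Cfsg.Agent.Lib.PReduced.Basic
import Cfsg.Agent.Lib.WeaklyClosed.Basic

set_option autoImplicit false
set_option linter.unusedSectionVars false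

namespace Cfsg.Agent.QdCrit

open Matrix PSL2 Cfsg.Agent.Quadratic
open scoped commutatorElement

universe u v

variable {p : ℕ} [Fact p.Prime]

theorem exists_intertwining {V : Type u} [AddCommGroup V] [Module (ZMod p) V] [Finite V]
    {G : Type v} [Group G] [Finite G] (ρ : G →* Module.End (ZMod p) V) {a b : G}
    (hgen : Subgroup.closure ({a, b} : Set G) = ⊤) (ha : IsQuad ρ a) (hb : IsQuad ρ b)
    (hne : ∃ g, ρ g ≠ 1)
    (hirr : ∀ U : Submodule (ZMod p) V, (∀ g, ∀ u ∈ U, ρ g u ∈ U) → U = ⊥ ∨ U = ⊤) :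
    ∃ (K : Type u) (_ : Field K) (_ : Finite K) (_ : CharP K p) (c : K), c ≠ 0 ∧
      ∃ φ : G →* Matrix.SpecialLinearGroup (Fin 2) K,
        φ a = upperE c ∧ φ b = lowerE 1 ∧ ∃ ι : (Fin 2 → K) →+ V, Function.Injective ι ∧
          ∀ g x, ι ((φ g).1 *ᵥ x) = ρ g (ι x) := by
  classical
  set C : Module.End (ZMod p) V := (ρ a - 1) * (ρ b - 1) + (ρ b - 1) * (ρ a - 1) with hC
  have hqa : (ρ a - 1) * (ρ a - 1) = 0 := by
    ext v
    simp [ha v]
  have hqb : (ρ b - 1) * (ρ b - 1) = 0 := by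
    ext v
    simp [hb v]
  have hCa : C * ρ a = ρ a * C := by
    have : C * (ρ a - 1) = (ρ a - 1) * C := by
      rw [hC, add_mul, mul_add, mul_assoc _ (ρ a - 1) (ρ a - 1), hqa, mul_zero, add_zero,
        ← mul_assoc (ρ a - 1) (ρ a - 1), hqa, zero_mul, zero_add, mul_assoc]
    rw [mul_sub, sub_mul, mul_one, one_mul, sub_left_inj] at this
    exact this
  have hCb : C * ρ b = ρ b * C := by
    have : C * (ρ b - 1) = (ρ b - 1) * C := by
      rw [hC, add_mul, mul_add, mul_assoc _ (ρ b - 1) (ρ b - 1), hqb, mul_zero, zero_add,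
        ← mul_assoc (ρ b - 1) (ρ b - 1), hqb, zero_mul, add_zero, mul_assoc]
    rw [mul_sub, sub_mul, mul_one, one_mul, sub_left_inj] at this
    exact this
  let S : Subalgebra (ZMod p) (Module.End (ZMod p) V) := Algebra.adjoin (ZMod p) {C}
  have hcomm : ∀ s ∈ S, ∀ g, s * ρ g = ρ g * s := by
    intro s hs g
    have hg : g ∈ Submonoid.closure ({a, b} : Set G) := by
      rw [← Subgroup.closure_toSubmonoid_of_finite, Subgroup.mem_toSubmonoid, hgen]
      exact Subgroup.mem_top g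
    induction hg using Submonoid.closure_induction with
    | mem x hx =>
      have hle : S ≤ Subalgebra.centralizer (ZMod p) {ρ x} :=
        Algebra.adjoin_le (Set.singleton_subset_iff.2 (Subalgebra.mem_centralizer_iff _ |>.2 (by
          intro y hy
          rw [Set.mem_singleton_iff] at hy
          subst hy
          rcases hx with rfl | rfl
          · exact hCa.symm
          · exact hCb.symm)))
      exact (Subalgebra.mem_centralizer_iff _ |>.1 (hle hs) (ρ x) rfl).symm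
    | one => rw [map_one, mul_one, one_mul]
    | mul x y _ _ hx hy => rw [map_mul, ← mul_assoc, hx, mul_assoc, hy, mul_assoc]
  haveI : Nontrivial V := by
    by_contra h
    rw [not_nontrivial_iff_subsingleton] at h
    obtain ⟨g, hg⟩ := hne
    exact hg (LinearMap.ext fun v => Subsingleton.elim _ _)
  have hinj : ∀ s : S, s ≠ 0 → Function.Injective (s : Module.End (ZMod p) V) := by
    intro s hs
    rw [← LinearMap.ker_eq_bot]
    refine (hirr _ fun g u hu => ?_).resolve_right fun h => hs (Subtype.ext (LinearMap.ker_eq_top.1 h))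
    rw [LinearMap.mem_ker] at hu ⊢
    rw [show (s : Module.End (ZMod p) V) (ρ g u) = ((s : Module.End (ZMod p) V) * ρ g) u from rfl,
      hcomm s s.2 g, Module.End.mul_apply, hu, map_zero]
  haveI : Finite (Module.End (ZMod p) V) := Finite.of_injective _ (DFunLike.coe_injective)
  letI : CommRing S :=
    { (inferInstance : Ring S) with
      mul_comm := fun x y => Subtype.ext
        (Algebra.commute_of_mem_adjoin_singleton_of_commute y.2
          (Algebra.commute_of_mem_adjoin_self x.2).symm).eq }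
  haveI : NoZeroDivisors S := ⟨fun {x y} hxy => by
    by_contra h
    push Not at h
    apply h.2
    refine Subtype.ext (LinearMap.ext fun v => hinj x h.1 ?_)
    simpa using LinearMap.congr_fun (congrArg Subtype.val hxy) v⟩
  haveI : Nontrivial S := ⟨0, 1, fun h => by
    obtain ⟨v, hv⟩ := exists_ne (0 : V)
    exact hv (LinearMap.congr_fun (congrArg Subtype.val h).symm v)⟩
  haveI : IsDomain S := NoZeroDivisors.to_isDomain S
  letI : Field S := (Finite.isField_of_domain S).toField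
  haveI : CharP S p := charP_of_injective_algebraMap (algebraMap (ZMod p) S).injective p
  let ρS : G →* Module.End S V :=
    { toFun := fun g =>
        { toFun := ρ g
          map_add' := map_add (ρ g)
          map_smul' := fun s v => (LinearMap.congr_fun (hcomm s s.2 g) v).symm }
      map_one' := LinearMap.ext fun v => apply_one ρ v
      map_mul' := fun x y => LinearMap.ext fun v => apply_mul ρ x y v }
  have hρS : ∀ g v, ρS g v = ρ g v := fun _ _ => rfl
  have hne' : ∃ g, ρS g ≠ 1 := by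
    obtain ⟨g, hg⟩ := hne
    exact ⟨g, fun h => hg (LinearMap.ext fun v => LinearMap.congr_fun h v)⟩
  have hirr' : ∀ U : Submodule S V, (∀ u ∈ U, ρS a u ∈ U) → (∀ u ∈ U, ρS b u ∈ U) →
      U = ⊥ ∨ U = ⊤ := by
    intro U hUa hUb
    let U₀ : Submodule (ZMod p) V := AddSubgroup.toZModSubmodule p U.toAddSubgroup
    rcases hirr U₀ (fun g u hu => apply_mem_of_closure hgen ρ (U : Set V) (by
      rintro s (rfl | rfl) w hw
      · exact hUa w hw
      · exact hUb w hw) g u hu) with h | h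
    · left
      rw [Submodule.eq_bot_iff]
      intro u hu
      exact (Submodule.mem_bot (ZMod p)).1 (h ▸ (hu : u ∈ U₀))
    · right
      rw [Submodule.eq_top_iff']
      exact fun u => (h.symm ▸ Submodule.mem_top : u ∈ U₀)
  let μ : S := ⟨C, Algebra.self_mem_adjoin_singleton (ZMod p) C⟩
  have hμC : ∀ w, (ρS a (ρS b w - w) - (ρS b w - w)) + (ρS b (ρS a w - w) - (ρS a w - w)) =
      μ • w := fun w => by
    show _ = C w
    simp [hC, hρS]
  obtain ⟨hμ, φ, hφa, hφb, -⟩ := exists_hom_sl2_of_pair ρS hgen ha hb hirr' hne' μ hμC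
  obtain ⟨w, hw0, hwA⟩ : ∃ w : V, w ≠ 0 ∧ ρ a w = w := by
    obtain ⟨v, hv⟩ := exists_ne (0 : V)
    by_cases h : ρ a v = v
    · exact ⟨v, hv, h⟩
    · exact ⟨ρ a v - v, sub_ne_zero.2 h, ha v⟩
  set w' := ρ b w - w with hw'
  have hbw' : ρ b w' = w' := hb w
  have hbw : ρ b w = w + w' := (add_sub_cancel w (ρ b w)).symm
  have haw' : ρ a w' = w' + μ • w := by
    have h := hμC w
    simp only [hρS] at h
    rw [hwA, sub_self, map_zero, sub_zero, add_zero, ← hw', sub_eq_iff_eq_add'] at h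
    exact h
  have hsm : ∀ (g : G) (s : S) (v : V), ρ g (s • v) = s • ρ g v := fun g s v => (ρS g).map_smul s v
  let ι : (Fin 2 → S) →+ V := AddMonoidHom.mk' (fun x => x 0 • w + x 1 • w') (fun x y => by
    simp only [Pi.add_apply, add_smul]; abel)
  have hι : ∀ x, ι x = x 0 • w + x 1 • w' := fun _ => rfl
  refine ⟨S, inferInstance, inferInstance, inferInstance, μ, hμ, φ, hφa, hφb, ι, ?_, ?_⟩
  · refine (injective_iff_map_eq_zero ι).2 fun x hx => ?_
    rw [hι] at hx
    have h1 : x 1 = 0 := by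
      by_contra h1
      have hw'K : w' = (-(x 1)⁻¹ * x 0) • w := by
        have h2 : (x 1)⁻¹ • (x 0 • w + x 1 • w') = 0 := by rw [hx, smul_zero]
        rw [smul_add, smul_smul, smul_smul, inv_mul_cancel₀ h1, one_smul,
          add_eq_zero_iff_neg_eq] at h2
        rw [← h2, neg_mul, neg_smul]
      have hr : (-(x 1)⁻¹ * x 0) • w' = 0 := by
        have h := hbw'
        rw [hw'K, hsm, hbw, smul_add, add_eq_left] at h
        exact h
      have hw'0 : w' = 0 := by
        rcases smul_eq_zero.1 hr with h | h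
        · rw [hw'K, h, zero_smul]
        · exact h
      rw [hw'0, map_zero, zero_add, eq_comm] at haw'
      exact hμ ((smul_eq_zero.1 haw').resolve_right hw0)
    rw [h1, zero_smul, add_zero] at hx
    have h0 := (smul_eq_zero.1 hx).resolve_right hw0
    funext i
    fin_cases i
    exacts [h0, h1]
  · intro g
    have hg : g ∈ Submonoid.closure ({a, b} : Set G) := by
      rw [← Subgroup.closure_toSubmonoid_of_finite, Subgroup.mem_toSubmonoid, hgen]
      exact Subgroup.mem_top g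
    induction hg using Submonoid.closure_induction with
    | mem y hy =>
      intro x
      rcases hy with rfl | rfl
      · rw [hι, hι, hφa, upperE_val, map_add, hsm, hsm, hwA, haw', smul_add, smul_smul]
        simp [Matrix.mulVec, dotProduct, Fin.sum_univ_two, add_smul, mul_comm μ]
        abel
      · rw [hι, hι, hφb, lowerE_val, map_add, hsm, hsm, hbw, hbw', smul_add]
        simp [Matrix.mulVec, dotProduct, Fin.sum_univ_two, add_smul]
        abel
    | one =>
      intro x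
      rw [map_one, map_one, Matrix.SpecialLinearGroup.coe_one, Matrix.one_mulVec]
      rfl
    | mul y z _ _ hy hz =>
      intro x
      rw [map_mul, map_mul, Matrix.SpecialLinearGroup.coe_mul, ← Matrix.mulVec_mulVec, hy, hz]
      rfl

theorem sq_sub_one_of_pow {K : Type*} [Field K] [CharP K p] {y : SL2 K} (hy : y ^ p = 1) :
    (y.1 - 1) * (y.1 - 1) = 0 := by
  obtain ⟨g, t, hg⟩ := exists_conj_upperE_of_pow hy
  have hy' : y = g * upperE t * g⁻¹ := by rw [← hg]; group
  have hgg : g.1 * (g⁻¹).1 = 1 := by rw [← Matrix.SpecialLinearGroup.coe_mul, mul_inv_cancel]; rfl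
  have hgg' : (g⁻¹).1 * g.1 = 1 := by rw [← Matrix.SpecialLinearGroup.coe_mul, inv_mul_cancel]; rfl
  have hE : ((upperE t).1 - 1) * ((upperE t).1 - 1) = 0 := by
    rw [upperE_val, Matrix.one_fin_two]
    ext i j
    fin_cases i <;> fin_cases j <;> simp [Matrix.mul_apply, Fin.sum_univ_two]
  have h1 : y.1 - 1 = g.1 * ((upperE t).1 - 1) * (g⁻¹).1 := by
    rw [hy', Matrix.SpecialLinearGroup.coe_mul, Matrix.SpecialLinearGroup.coe_mul, mul_sub, sub_mul, mul_one, hgg]
  rw [h1]
  calc g.1 * ((upperE t).1 - 1) * (g⁻¹).1 * (g.1 * ((upperE t).1 - 1) * (g⁻¹).1)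
      = g.1 * (((upperE t).1 - 1) * ((g⁻¹).1 * g.1) * ((upperE t).1 - 1)) * (g⁻¹).1 := by
        simp only [mul_assoc]
    _ = 0 := by rw [hgg', mul_one, hE, mul_zero, zero_mul]

theorem eq_neg_one_of_sq {K : Type*} [Field K] [CharP K p] (hp : p ≠ 2) {x : SL2 K} (hx : x * x = 1)
    (hx1 : x ≠ 1) : x = -1 := by
  have h2 : (2 : K) ≠ 0 := two_ne_zero_char hp
  have hinv : x⁻¹ = x := inv_eq_of_mul_eq_one_right hx
  have hm : x.1 = Matrix.adjugate x.1 := by
    conv_lhs => rw [← hinv]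
    exact Matrix.SpecialLinearGroup.coe_inv x
  rw [Matrix.adjugate_fin_two] at hm
  have e00 : x.1 0 0 = x.1 1 1 := by simpa using congrFun (congrFun hm 0) 0
  have e01 : x.1 0 1 = 0 := by
    have : x.1 0 1 = -x.1 0 1 := by simpa using congrFun (congrFun hm 0) 1
    exact (mul_eq_zero.1 (by linear_combination this : (2 : K) * x.1 0 1 = 0)).resolve_left h2
  have e10 : x.1 1 0 = 0 := by
    have : x.1 1 0 = -x.1 1 0 := by simpa using congrFun (congrFun hm 1) 0
    exact (mul_eq_zero.1 (by linear_combination this : (2 : K) * x.1 1 0 = 0)).resolve_left h2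
  have hd := x.2
  rw [Matrix.det_fin_two, e01, zero_mul, sub_zero, ← e00] at hd
  rcases mul_self_eq_one_iff.1 hd with h | h
  · refine absurd (Subtype.ext (Matrix.ext fun i j => ?_)) hx1
    fin_cases i <;> fin_cases j <;> simp [e01, e10, ← e00, h]
  · refine Subtype.ext (Matrix.ext fun i j => ?_)
    fin_cases i <;> fin_cases j <;> simp [e01, e10, ← e00, h]

/-- Inside a subgroup with `upperE c`, `lowerE 1`: elements acting on some pair as standard transvections. -/
theorem exists_standard_pair {K : Type*} [Field K] [Finite K] [CharP K p] (hp : p ≠ 2) {c : K}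
    (hc : c ≠ 0) (G' : Subgroup (SL2 K)) (hu : upperE c ∈ G') (hl : lowerE 1 ∈ G') :
    ∃ (U L : SL2 K) (w v : Fin 2 → K), U ∈ G' ∧ L ∈ G' ∧ w ≠ 0 ∧
      U.1 *ᵥ w = w ∧ U.1 *ᵥ v = w + v ∧ L.1 *ᵥ w = w + v ∧ L.1 *ᵥ v = v := by
  obtain ⟨M, hM, ⟨e⟩⟩ := exists_sl2_zmod hp hc G' hu hl
  set U := e.symm (upperE 1)
  set L := e.symm (lowerE 1)
  have hUp : (U : SL2 K) ^ p = 1 := by
    rw [← SubgroupClass.coe_pow, ← map_pow, upperE_pow_char, map_one, OneMemClass.coe_one]
  have hl1 : (lowerE (1 : ZMod p)) ^ p = 1 := by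
    have h : ∀ n : ℕ, (lowerE (1 : ZMod p)) ^ n = lowerE (n : ZMod p) := by
      intro n
      induction n with
      | zero =>
        refine Subtype.ext ?_
        simp [lowerE_val, Matrix.one_fin_two]
      | succ n ih =>
        refine Subtype.ext ?_
        rw [pow_succ, ih, Matrix.SpecialLinearGroup.coe_mul, lowerE_val, lowerE_val, lowerE_val]
        ext i j; fin_cases i <;> fin_cases j <;> simp [Matrix.mul_apply, Fin.sum_univ_two]
    rw [h, CharP.cast_eq_zero]
    refine Subtype.ext ?_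
    simp [lowerE_val, Matrix.one_fin_two]
  have hLp : (L : SL2 K) ^ p = 1 := by
    rw [← SubgroupClass.coe_pow, ← map_pow, hl1, map_one, OneMemClass.coe_one]
  -- the Weyl element squares to `-1`
  set t₀ := upperE (1 : ZMod p) * (lowerE 1)⁻¹ * upperE 1
  have ht₀ : t₀ * t₀ = -1 := by
    refine Subtype.ext ?_
    simp only [t₀, Matrix.SpecialLinearGroup.coe_mul, Matrix.SpecialLinearGroup.coe_inv, upperE_val, lowerE_val,
      Matrix.adjugate_fin_two_of]
    ext i j
    fin_cases i <;> fin_cases j <;> simp [Matrix.mul_apply, Fin.sum_univ_two]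
  set T : M := U * L⁻¹ * U
  have hT : (T : SL2 K) * T = -1 := by
    refine eq_neg_one_of_sq hp ?_ ?_
    · have h : T * T * (T * T) = 1 := by
        rw [show T = e.symm t₀ by simp [T, t₀, U, L], ← map_mul, ← map_mul, ht₀, neg_one_mul,
          neg_neg, map_one]
      exact congrArg Subtype.val h
    · intro h
      have h1 : T * T = 1 := Subtype.ext h
      rw [show T = e.symm t₀ by simp [T, t₀, U, L], ← map_mul, ht₀,
        MulEquiv.map_eq_one_iff] at h1
      have h3 : (-1 : ZMod p) = 1 := by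
        simpa using congrFun (congrFun (congrArg Subtype.val h1) 0) 0
      haveI : Fact (2 < p) := ⟨lt_of_le_of_ne (Fact.out : p.Prime).two_le (Ne.symm hp)⟩
      exact ZMod.neg_one_ne_one h3
  set u := (U : SL2 K).1 - 1 with hu'
  set l := (L : SL2 K).1 - 1 with hl'
  have huu : u * u = 0 := sq_sub_one_of_pow hUp
  have hll : l * l = 0 := sq_sub_one_of_pow hLp
  have hLinv : ((L : SL2 K)⁻¹).1 = 1 - l := by
    have h1 : (L : SL2 K).1 * (1 - l) = 1 := by
      rw [show (L : SL2 K).1 = 1 + l by rw [hl']; abel, mul_sub, mul_one, add_mul, one_mul, hll]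
      abel
    calc ((L : SL2 K)⁻¹).1 = ((L : SL2 K)⁻¹).1 * ((L : SL2 K).1 * (1 - l)) := by rw [h1, mul_one]
      _ = 1 - l := by
        rw [← mul_assoc, ← Matrix.SpecialLinearGroup.coe_mul, inv_mul_cancel]; simp
  have huu' : ∀ x, u *ᵥ (u *ᵥ x) = 0 := fun x => by
    rw [Matrix.mulVec_mulVec, huu, Matrix.zero_mulVec]
  have hll' : ∀ x, l *ᵥ (l *ᵥ x) = 0 := fun x => by
    rw [Matrix.mulVec_mulVec, hll, Matrix.zero_mulVec]
  obtain ⟨w, hw0, huw⟩ : ∃ w : Fin 2 → K, w ≠ 0 ∧ u *ᵥ w = 0 := by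
    by_cases h : u *ᵥ ![1, 0] = 0
    · exact ⟨_, fun h0 => one_ne_zero (congrFun h0 0), h⟩
    · exact ⟨_, h, huu' _⟩
  have hTx : ∀ x, (T : SL2 K).1 *ᵥ x =
      (1 + u) *ᵥ ((1 - l) *ᵥ ((1 + u) *ᵥ x)) := fun x => by
    simp only [T, Subgroup.coe_mul, Subgroup.coe_inv, Matrix.SpecialLinearGroup.coe_mul, hLinv,
      Matrix.mulVec_mulVec, hu', add_sub_cancel, mul_assoc]
  have hTT : (T : SL2 K).1 *ᵥ ((T : SL2 K).1 *ᵥ w) = -w := by
    rw [Matrix.mulVec_mulVec, ← Matrix.SpecialLinearGroup.coe_mul, hT, Matrix.SpecialLinearGroup.coe_neg,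
      Matrix.SpecialLinearGroup.coe_one, Matrix.neg_mulVec, Matrix.one_mulVec]
  set m1 := l *ᵥ w with hm1
  set m2 := u *ᵥ m1 with hm2
  set m3 := l *ᵥ m2 with hm3
  set m4 := u *ᵥ m3 with hm4
  have hlm1 : l *ᵥ m1 = 0 := hll' w
  have hum2 : u *ᵥ m2 = 0 := huu' m1
  have hlm3 : l *ᵥ m3 = 0 := hll' m2
  have hum4 : u *ᵥ m4 = 0 := huu' m3
  have h1 : (T : SL2 K).1 *ᵥ w = w - m1 - m2 := by
    rw [hTx]
    simp only [Matrix.add_mulVec, Matrix.sub_mulVec, Matrix.one_mulVec, Matrix.mulVec_add,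
      Matrix.mulVec_sub, huw, Matrix.mulVec_zero, ← hm1, ← hm2]
    abel
  have hkey : (2 : K) • (w - m1 - (2 : K) • m2 + m3 + m4) = 0 := by
    have h2 := hTT
    rw [h1, hTx] at h2
    simp only [Matrix.add_mulVec, Matrix.sub_mulVec, Matrix.one_mulVec, Matrix.mulVec_add,
      Matrix.mulVec_sub, Matrix.mulVec_zero, huw, hlm1, hum2, hlm3, hum4,
      ← hm1, ← hm2, ← hm3, ← hm4] at h2
    rw [eq_neg_iff_add_eq_zero] at h2
    rw [← h2]
    simp only [smul_add, smul_sub, two_smul]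
    abel
  have hk := (smul_eq_zero.1 hkey).resolve_left (two_ne_zero_char hp)
  have h4 : m4 = m2 := by
    have h5 := congrArg (u *ᵥ ·) hk
    simp only [Matrix.mulVec_add, Matrix.mulVec_sub, Matrix.mulVec_smul, Matrix.mulVec_zero, huw,
      hum2, hum4, ← hm2, ← hm4, smul_zero] at h5
    rw [← sub_eq_zero, ← h5]
    abel
  have h6 : (w - m2) = l *ᵥ (w - m2) := by
    rw [Matrix.mulVec_sub, ← hm1, ← hm3, ← sub_eq_zero, ← hk, h4, two_smul]
    abel
  have h7 : w = m2 := by
    have h8 : l *ᵥ (w - m2) = 0 := by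
      conv_lhs => rw [h6]
      exact hll' _
    rw [h8, sub_eq_zero] at h6
    exact h6
  have eU : ∀ x, (U : SL2 K).1 *ᵥ x = x + u *ᵥ x := fun x => by
    rw [hu', Matrix.sub_mulVec, Matrix.one_mulVec, add_sub_cancel]
  have eL : ∀ x, (L : SL2 K).1 *ᵥ x = x + l *ᵥ x := fun x => by
    rw [hl', Matrix.sub_mulVec, Matrix.one_mulVec, add_sub_cancel]
  refine ⟨U, L, w, m1, hM U.2, hM L.2, hw0, ?_, ?_, ?_, ?_⟩
  · rw [eU, huw, add_zero]
  · rw [eU, ← hm2, ← h7, add_comm]
  · rw [eL, ← hm1]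
  · rw [eL, hlm1, add_zero]

/-- The irreducible case. -/
theorem involves_qd_of_minimal {G : Type u} [Group G] [Finite G] (hp : p ≠ 2) {V : Subgroup G}
    (hVn : V.Normal) (hV : Cfsg.IsElementaryAbelian p V) {a b : G}
    (ha : ∀ v ∈ V, Commute a (a * v * a⁻¹ * v⁻¹)) (hb : ∀ v ∈ V, Commute b (b * v * b⁻¹ * v⁻¹))
    (hne : ∃ g ∈ Subgroup.closure ({a, b} : Set G), g ∉ Subgroup.centralizer (V : Set G))
    (hirr : ∀ U ≤ V, (∀ g ∈ Subgroup.closure ({a, b} : Set G), ∀ x ∈ U, g * x * g⁻¹ ∈ U) →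
      U = ⊥ ∨ U = V) :
    Cfsg.Involves ↥(Cfsg.qd p) G := by
  set H := Subgroup.closure ({a, b} : Set G) with hH
  have hHV : H ≤ Subgroup.normalizer (V : Set G) := fun x _ => by
    rw [Subgroup.normalizer_eq_top]; exact Subgroup.mem_top x
  letI : CommGroup V := { mul_comm := fun u v => hV.1.1.1 u v }
  letI : Module (ZMod p) (Additive V) :=
    AddCommGroup.zmodModule (n := p) fun v =>
      congrArg Additive.ofMul (Subtype.ext (hV.2 _ (Additive.toMul v).2) : (Additive.toMul v : V) ^ p = 1)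
  let θ : H →* MulAut V := V.normalizerMonoidHom.comp (Subgroup.inclusion hHV)
  have hθ : ∀ (h : H) (x : V), ((θ h x : V) : G) = h * x * (h : G)⁻¹ := fun h x => rfl
  let ρ : H →* Module.End (ZMod p) (Additive V) :=
    { toFun := fun u => (θ u).toMonoidHom.toAdditive.toZModLinearMap p
      map_one' := LinearMap.ext fun v => by simp
      map_mul' := fun u w => LinearMap.ext fun v => by simp }
  have happ : ∀ u v, ρ u v = Additive.ofMul (θ u (Additive.toMul v)) := fun _ _ => rfl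
  have hval : ∀ u v, ((Additive.toMul (ρ u v) : V) : G) =
      u * (Additive.toMul v : V) * (u : G)⁻¹ := fun u v => rfl
  have hquad : ∀ u : H, (∀ v ∈ V, Commute (u : G) ((u : G) * v * (u : G)⁻¹ * v⁻¹)) → IsQuad ρ u := by
    intro u hu v
    apply Additive.toMul.injective
    rw [happ, happ]
    simp only [toMul_sub, toMul_ofMul, div_eq_mul_inv]
    refine Subtype.ext ?_
    rw [hθ, Subgroup.coe_mul, Subgroup.coe_inv, hθ, (hu _ (Additive.toMul v).2).eq, mul_inv_cancel_right]
  obtain ⟨g₀, hg₀, hg₀V⟩ := hne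
  have hne' : ∃ g, ρ g ≠ 1 := by
    refine ⟨⟨g₀, hg₀⟩, fun h => hg₀V fun x hx => ?_⟩
    have h2 := congrArg (fun t : Additive V => ((Additive.toMul t : V) : G))
      (LinearMap.congr_fun h (Additive.ofMul (⟨x, hx⟩ : V)))
    exact (mul_inv_eq_iff_eq_mul.1 h2).symm
  have hirr' : ∀ U : Submodule (ZMod p) (Additive V), (∀ g, ∀ u ∈ U, ρ g u ∈ U) → U = ⊥ ∨ U = ⊤ := by
    intro U hU
    let U₀ : Subgroup G := ((AddSubgroup.toSubgroup' U.toAddSubgroup).map V.subtype)
    have hmem : ∀ x : V, (x : G) ∈ U₀ ↔ Additive.ofMul x ∈ U := fun x =>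
      ⟨fun ⟨y, hy, he⟩ => (Subtype.ext he : y = x) ▸ hy, fun h => ⟨x, h, rfl⟩⟩
    rcases hirr U₀ (Subgroup.map_subtype_le _) (fun g hg x hx => by
      obtain ⟨y, hy, rfl⟩ := hx
      exact ⟨_, hU ⟨g, hg⟩ (Additive.ofMul y) hy, rfl⟩) with h | h
    · left
      refine (Submodule.eq_bot_iff U).2 fun x hx => ?_
      have h1 : ((Additive.toMul x : V) : G) ∈ U₀ := (hmem _).2 hx
      rw [h, Subgroup.mem_bot] at h1
      have h2 : Additive.toMul x = (1 : V) := Subtype.ext h1
      exact congrArg Additive.ofMul h2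
    · right
      exact Submodule.eq_top_iff'.2 fun x =>
        (hmem (Additive.toMul x)).1 (h.symm ▸ (Additive.toMul x : V).2)
  obtain ⟨K, i1, i2, i3, c, hc, φ, hφa, hφb, ι, hι, hint⟩ :=
    exists_intertwining ρ (closure_pair_eq_top a b)
      (hquad ⟨a, _⟩ ha) (hquad ⟨b, _⟩ hb) hne' hirr'
  haveI := i2
  haveI := i3
  obtain ⟨U, L, w, v, ⟨a', ha'⟩, ⟨b', hb'⟩, hw0, hUw, hUv, hLw, hLv⟩ :=
    exists_standard_pair hp hc φ.range ⟨_, hφa⟩ ⟨_, hφb⟩
  let j : (Fin 2 → K) → G := fun x => ((Additive.toMul (ι x) : V) : G)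
  have hj : ∀ (h : H) x, (h : G) * j x * (h : G)⁻¹ = j ((φ h).1 *ᵥ x) := fun h x => by
    show _ = ((Additive.toMul (ι _) : V) : G)
    rw [hint, hval]
  have hjadd : ∀ x y, j (x + y) = j x * j y := fun x y => by
    show ((Additive.toMul (ι (x + y)) : V) : G) = _
    rw [map_add, toMul_add, Subgroup.coe_mul]
  refine involves_qd_of_pair hp (w := j w) (v := j v) (a := (a' : G)) (b := (b' : G)) ?_
    (hV.2 _ (Additive.toMul (ι w)).2) (hV.2 _ (Additive.toMul (ι v)).2) ?_ ?_ ?_ ?_ ?_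
  · intro h
    refine hw0 (hι ?_)
    rw [map_zero]
    have h1 : Additive.toMul (ι w) = (1 : V) := Subtype.ext h
    exact congrArg Additive.ofMul h1
  · show _ = _
    rw [← hjadd, add_comm, hjadd]
  · rw [hj, ha', hUw]
  · rw [hj, ha', hUv, hjadd]
  · rw [hj, hb', hLw, hjadd]
  · rw [hj, hb', hLv]

theorem involves_qd_aux (hp : p ≠ 2) (n : ℕ) : ∀ {G : Type u} [Group G] [Finite G]
    {P : Subgroup G} [P.Normal] (_ : IsPGroup p P) {a b y : G}
    (_ : ∀ v ∈ P, Commute a (a * v * a⁻¹ * v⁻¹)) (_ : ∀ v ∈ P, Commute b (b * v * b⁻¹ * v⁻¹))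
    (_ : y ∈ Subgroup.closure ({a, b} : Set G)) (_ : P ⊔ Subgroup.closure ({a, b} : Set G) = ⊤)
    (_ : ∀ k : ℕ, y ^ p ^ k ∉ Subgroup.centralizer (P : Set G)), Nat.card P = n →
    Cfsg.Involves ↥(Cfsg.qd p) G := by
  induction n using Nat.strong_induction_on with
  | _ n ih =>
  intro G _ _ P hPn hP a b y ha hb hy hgen hny hn
  have hP0 : P ≠ ⊥ := by
    rintro rfl
    exact hny 0 (Subgroup.mem_centralizer_iff.2 fun x hx => by
      rw [Subgroup.mem_bot.1 hx, one_mul, mul_one])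
  haveI : Nontrivial P := (Subgroup.nontrivial_iff_ne_bot P).2 hP0
  haveI := hP.center_nontrivial
  set Z := (Subgroup.center P).map P.subtype with hZ
  haveI : Z.Normal := by rw [hZ]; infer_instance
  have hZ0 : Z ≠ ⊥ := by
    rw [hZ, Ne, Subgroup.map_eq_bot_iff_of_injective _ P.subtype_injective]
    exact (Subgroup.nontrivial_iff_ne_bot _).1 inferInstance
  haveI : Group.IsNilpotent P := hP.isNilpotent
  haveI : Group.IsSolvable Z :=
    Group.isSolvable_of_isSolvable_injective (Subgroup.inclusion_injective (Subgroup.map_subtype_le _))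
  obtain ⟨q, hq, V, hVn, hV0, hVZ, hVc, hVq, hVe, hmin⟩ := Solvable.exists_minimal_normal_pGroup hZ0
  have hVP : V ≤ P := hVZ.trans (Subgroup.map_subtype_le _)
  obtain rfl : q = p := by
    obtain ⟨x, hx1'⟩ := (V.ne_bot_iff_exists_ne_one).1 hV0
    have hx1 : (x : G) ≠ 1 := fun h => hx1' (Subtype.ext h)
    obtain ⟨k, hk⟩ := IsPGroup.iff_orderOf.1 hP ⟨x, hVP x.2⟩
    rw [Subgroup.orderOf_mk] at hk
    haveI := Fact.mk hq
    have hoq : orderOf (x : G) = q := orderOf_eq_prime (hVe x x.2) hx1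
    exact (Nat.prime_dvd_prime_iff_eq hq Fact.out).1 (hq.dvd_of_dvd_pow (n := k) (by rw [← hk, hoq]))
  haveI := hVn
  have hVcent : ∀ g ∈ P, ∀ x ∈ V, g * x * g⁻¹ = x := by
    intro g hg x hx
    obtain ⟨z, hz, rfl⟩ := hVZ hx
    have h := congrArg Subtype.val (Subgroup.mem_center_iff.1 hz ⟨g, hg⟩)
    simp only [Subgroup.coe_mul] at h
    rw [show P.subtype z = (z : G) from rfl, h, mul_inv_cancel_right]
  have hirr : ∀ U ≤ V, (∀ g ∈ Subgroup.closure ({a, b} : Set G), ∀ x ∈ U, g * x * g⁻¹ ∈ U) →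
      U = ⊥ ∨ U = V := by
    intro U hUV hU
    refine hmin U ?_ hUV
    rw [← Subgroup.normalizer_eq_top_iff, eq_top_iff, ← hgen]
    refine sup_le (fun g hg => ?_) fun g hg => ?_
    · exact WeaklyClosed.mem_normalizer_of_cj_le (by
        rintro _ ⟨x, hx, rfl⟩
        show g * x * g⁻¹ ∈ U
        rw [hVcent g hg x (hUV hx)]; exact hx)
    · exact WeaklyClosed.mem_normalizer_of_cj_le (by
        rintro _ ⟨x, hx, rfl⟩
        exact hU g hg x hx)
  by_cases h1 : ∀ k : ℕ, y ^ q ^ k ∉ Subgroup.centralizer (V : Set G)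
  · exact involves_qd_of_minimal hp hVn ⟨hVc, hVe⟩ (fun v hv => ha v (hVP hv))
      (fun v hv => hb v (hVP hv)) ⟨y, hy, by simpa using h1 0⟩ hirr
  set π := QuotientGroup.mk' V with hπ
  have hπs : Function.Surjective π := QuotientGroup.mk'_surjective V
  haveI : (P.map π).Normal := hPn.map π hπs
  by_cases h2 : ∀ k : ℕ, π y ^ q ^ k ∉ Subgroup.centralizer ((P.map π : Subgroup (G ⧸ V)) : Set (G ⧸ V))
  · have hlt : Nat.card (P.map π) < n := by
      have h := Solvable.card_eq_card_map_mul π P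
      rw [hπ, QuotientGroup.ker_mk', inf_eq_right.2 hVP] at h
      rw [← hn, hπ, h]
      exact lt_mul_of_one_lt_right Nat.card_pos
        (Finite.one_lt_card_iff_nontrivial.2 ((Subgroup.nontrivial_iff_ne_bot V).2 hV0))
    have hquad : ∀ c : G, (∀ v ∈ P, Commute c (c * v * c⁻¹ * v⁻¹)) →
        ∀ v ∈ P.map π, Commute (π c) (π c * v * (π c)⁻¹ * v⁻¹) := by
      rintro c hc _ ⟨v, hv, rfl⟩
      simpa using (hc v hv).map π
    have hcl : (Subgroup.closure ({a, b} : Set G)).map π =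
        Subgroup.closure ({π a, π b} : Set (G ⧸ V)) := by
      rw [MonoidHom.map_closure, Set.image_pair]
    exact Involves.involves_of_surjective π hπs (ih _ hlt (hP.map π) (hquad a ha) (hquad b hb)
      (hcl ▸ Subgroup.mem_map_of_mem π hy)
      (by rw [← hcl, ← Subgroup.map_sup, hgen, Subgroup.map_top_of_surjective π hπs]) h2 rfl)
  exfalso
  push Not at h1 h2
  obtain ⟨m, hm⟩ := h1
  obtain ⟨l, hl⟩ := h2
  set z := y ^ q ^ (m + l) with hz
  have hzV : z ∈ Subgroup.centralizer (V : Set G) := by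
    rw [hz, pow_add, pow_mul]; exact pow_mem hm _
  have hzP : π z ∈ Subgroup.centralizer ((P.map π : Subgroup (G ⧸ V)) : Set (G ⧸ V)) := by
    rw [hz, map_pow, pow_add, mul_comm, pow_mul]; exact pow_mem hl _
  refine hny (m + l + 1) (Subgroup.mem_centralizer_iff.2 fun x hx => ?_)
  rw [pow_succ, pow_mul, ← hz]
  set v := x⁻¹ * (z * x * z⁻¹) with hv
  have hvV : v ∈ V := by
    rw [← QuotientGroup.eq_one_iff, ← QuotientGroup.mk'_apply V v, hv]
    have := Subgroup.mem_centralizer_iff.1 hzP (π x) (Subgroup.mem_map_of_mem π hx)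
    simp only [map_mul, map_inv]
    rw [← hπ, ← this]
    group
  have hzv : Commute z v := (Subgroup.mem_centralizer_iff.1 hzV v hvV).symm
  have hrec : ∀ i : ℕ, z ^ i * x * (z ^ i)⁻¹ = x * v ^ i := by
    intro i
    induction i with
    | zero => simp
    | succ i ihi =>
      calc z ^ (i + 1) * x * (z ^ (i + 1))⁻¹ = z * (z ^ i * x * (z ^ i)⁻¹) * z⁻¹ := by
            rw [pow_succ']; group
        _ = z * x * (v ^ i * z⁻¹) := by rw [ihi]; group
        _ = z * x * (z⁻¹ * v ^ i) := by rw [((hzv.pow_right i).inv_left).eq]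
        _ = (x * v) * v ^ i := by rw [hv]; group
        _ = x * v ^ (i + 1) := by rw [pow_succ', mul_assoc]
  have h := hrec q
  rw [hVe v hvV, mul_one, mul_inv_eq_iff_eq_mul] at h
  exact h.symm

/-- Failure of `p`-stability on a normal `p`-subgroup gives a section `Qd(p)`. -/
theorem involves_qd_of_not_stable {G : Type u} [Group G] [Finite G] (hp : p ≠ 2) {P : Subgroup G}
    [P.Normal] (hP : IsPGroup p P) {a : G} (ha : ∀ v ∈ P, Commute a (a * v * a⁻¹ * v⁻¹))
    (hna : (QuotientGroup.mk a : G ⧸ Subgroup.centralizer (P : Set G)) ∉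
      Cfsg.pCore p (G ⧸ Subgroup.centralizer (P : Set G))) :
    Cfsg.Involves ↥(Cfsg.qd p) G := by
  obtain ⟨g, hg⟩ := exists_pair_of_not_mem_pCore hna
  obtain ⟨g, rfl⟩ := QuotientGroup.mk_surjective g
  set C := Subgroup.centralizer (P : Set G)
  set π := QuotientGroup.mk' C
  set b := g * a * g⁻¹ with hb'
  obtain ⟨y, hy, hny⟩ : ∃ y ∈ Subgroup.closure ({a, b} : Set G), ∀ k : ℕ, y ^ p ^ k ∉ C := by
    by_contra h
    push Not at h
    apply hg
    intro x
    have hx : (x : G ⧸ C) ∈ (Subgroup.closure ({a, b} : Set G)).map π := by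
      rw [MonoidHom.map_closure, Set.image_pair]
      exact x.2
    obtain ⟨y, hy, hyx⟩ := hx
    obtain ⟨k, hk⟩ := h y hy
    refine ⟨k, Subtype.ext ?_⟩
    rw [SubgroupClass.coe_pow, OneMemClass.coe_one, ← hyx, ← map_pow]
    exact (QuotientGroup.eq_one_iff _).2 hk
  have hb : ∀ v ∈ P, Commute b (b * v * b⁻¹ * v⁻¹) :=
    commute_of_quad_conj (by rw [Subgroup.normalizer_eq_top]; exact Subgroup.mem_top g) ha
  set H := Subgroup.closure ({a, b} : Set G) with hH
  set S := P ⊔ H with hS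
  have haS : a ∈ S := le_sup_right (a := P) (Subgroup.subset_closure (Set.mem_insert _ _))
  have hbS : b ∈ S := le_sup_right (a := P) (Subgroup.subset_closure (Set.mem_insert_of_mem _ rfl))
  have hPS : P ≤ S := le_sup_left
  have hcl : (Subgroup.closure ({⟨a, haS⟩, ⟨b, hbS⟩} : Set S)) = H.subgroupOf S := by
    apply Subgroup.map_injective S.subtype_injective
    rw [MonoidHom.map_closure, Set.image_pair, Subgroup.map_subgroupOf_eq_of_le le_sup_right]
    rfl
  have hquad : ∀ (c : G) (hc : c ∈ S), (∀ v ∈ P, Commute c (c * v * c⁻¹ * v⁻¹)) →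
      ∀ v ∈ P.subgroupOf S, Commute (⟨c, hc⟩ : S) (⟨c, hc⟩ * v * (⟨c, hc⟩ : S)⁻¹ * v⁻¹) :=
    fun c hc h v hv => Subtype.ext (h v hv)
  refine Involves.involves_of_subgroup (N := S)
    (involves_qd_aux hp _ (IsPGroup.comap_subtype hP) (hquad a haS ha) (hquad b hbS hb)
      (y := ⟨y, le_sup_right (a := P) hy⟩) ?_ ?_ ?_ rfl)
  · rw [hcl]; exact hy
  · rw [hcl]
    show P.subgroupOf S ⊔ H.subgroupOf S = ⊤
    rw [← Subgroup.subgroupOf_sup hPS le_sup_right, Subgroup.subgroupOf_self]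
  · intro k hk
    refine hny k (Subgroup.mem_centralizer_iff.2 fun x hx => ?_)
    exact congrArg Subtype.val (Subgroup.mem_centralizer_iff.1 hk ⟨x, hPS hx⟩ hx)

/-- Without a section `Qd(p)` every group is `p`-stable in the normalizer form. -/
theorem isNormalizerPStable_of_not_involves {G : Type u} [Group G] [Finite G] (hp : p ≠ 2)
    (hfree : ¬ Cfsg.Involves ↥(Cfsg.qd p) G) : Cfsg.IsNormalizerPStable p G := by
  intro P hP g hg hq
  by_contra hna
  set N := Subgroup.normalizer (P : Set G)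
  have hC : Subgroup.centralizer ((P.subgroupOf N : Subgroup N) : Set N) =
      (Subgroup.centralizer (P : Set G)).subgroupOf N := by
    ext x
    rw [Subgroup.mem_subgroupOf, Subgroup.mem_centralizer_iff, Subgroup.mem_centralizer_iff]
    exact ⟨fun h v hv => congrArg Subtype.val (h ⟨v, Subgroup.le_normalizer hv⟩ hv),
      fun h v hv => Subtype.ext (h v hv)⟩
  refine hfree (Involves.involves_of_subgroup (N := N) ?_)
  refine involves_qd_of_not_stable hp (P := P.subgroupOf N) (IsPGroup.comap_subtype hP)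
    (a := ⟨g, hg⟩) (fun v hv => Subtype.ext (commute_of_quad hq v hv)) ?_
  rw [← show (QuotientGroup.quotientMulEquivOfEq hC).symm
      (QuotientGroup.mk (⟨g, hg⟩ : N)) = QuotientGroup.mk (⟨g, hg⟩ : N) from rfl]
  intro h
  refine hna ?_
  have h2 := Cores.map_pCore_le (QuotientGroup.quotientMulEquivOfEq hC).toMonoidHom
    (QuotientGroup.quotientMulEquivOfEq hC).surjective p (Subgroup.mem_map_of_mem _ h)
  simpa using h2

/-- A group with a section `Qd(p)` has a section that is not `p`-stable. -/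
theorem not_isNormalizerPStable_of_equiv {X : Type u} [Group X] [Finite X] (hp : p ≠ 2)
    (e : X ≃* ↥(Cfsg.qd p)) : ¬ Cfsg.IsNormalizerPStable p X := by
  intro hst
  set P := (Qd.transE p).map e.symm.toMonoidHom with hP
  haveI : P.Normal := Subgroup.Normal.map inferInstance _ e.symm.surjective
  set g := e.symm (Qd.up p 1)
  have hg : g ∈ Subgroup.normalizer (P : Set X) := by
    rw [Subgroup.normalizer_eq_top]; exact Subgroup.mem_top g
  have hq : ⁅⁅P, Subgroup.zpowers g⁆, Subgroup.zpowers g⁆ = ⊥ := by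
    rw [Subgroup.commutator_eq_bot_iff_le_centralizer, Subgroup.zpowers_eq_closure g,
      Subgroup.centralizer_closure, Subgroup.commutator_le]
    intro v hv w hw
    obtain ⟨_, ⟨x, y, rfl⟩, rfl⟩ := hv
    rw [← Subgroup.zpowers_eq_closure] at hw
    obtain ⟨k, rfl⟩ := hw
    refine Subgroup.mem_centralizer_singleton_iff.2 ?_
    show ⁅e.symm (Qd.tr p x y), g ^ k⁆ * g = g * ⁅e.symm (Qd.tr p x y), g ^ k⁆
    rw [← map_zpow, ← map_commutatorElement, ← map_mul, ← map_mul]
    congr 1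
    obtain ⟨a, b, c, d, u, w, h, he⟩ := Qd.exists_el p (Qd.up p 1 ^ k)
    have hk : ∃ t, Qd.up p 1 ^ k = Qd.up p t := by
      obtain ⟨n, hn⟩ := Submonoid.mem_powers_iff _ _ |>.1
        (mem_powers_iff_mem_zpowers.2 (Subgroup.zpow_mem_zpowers (Qd.up p 1) k))
      exact ⟨_, hn.symm.trans (Qd.up_pow p 1 n)⟩
    obtain ⟨t, ht⟩ := hk
    rw [ht, commutatorElement_def, Qd.up, Qd.up, Qd.tr, Qd.el_inv, Qd.el_inv, Qd.el_mul, Qd.el_mul,
      Qd.el_mul, Qd.el_mul, Qd.el_mul]
    refine Qd.el_congr p ?_ ?_ ?_ ?_ ?_ ?_ <;> ring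
  have h := hst P ((Qd.isPGroup_transE p).map _) g hg hq
  set N := Subgroup.normalizer (P : Set X) with hN
  have hmemN : ∀ x : X, x ∈ N := fun x => by rw [hN, Subgroup.normalizer_eq_top]; exact Subgroup.mem_top x
  set C := (Subgroup.centralizer (P : Set X)).subgroupOf N
  haveI : C.Normal := inferInstance
  let f : ↥(Cfsg.qd p) →* ↥N ⧸ C :=
    (QuotientGroup.mk' C).comp ((e.symm.toMonoidHom).codRestrict N fun q => hmemN _)
  haveI := PReduced.pCore_normal p (↥N ⧸ C)
  set J := (Cfsg.pCore p (↥N ⧸ C)).comap f with hJ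
  haveI : J.Normal := Subgroup.Normal.comap inferInstance f
  have hup : ∀ x : ZMod p, Qd.up p x ∈ J := by
    intro x
    rw [show Qd.up p x = Qd.up p 1 ^ x.val by rw [Qd.up_pow, mul_one, ZMod.natCast_zmod_val]]
    exact pow_mem (show Qd.up p 1 ∈ J from h) _
  have htr : ∀ x y, Qd.tr p x y ∈ J := by
    intro x y
    show f (Qd.tr p x y) ∈ Cfsg.pCore p (↥N ⧸ C)
    have : f (Qd.tr p x y) = 1 := (QuotientGroup.eq_one_iff _).2 (by
      refine Subgroup.mem_centralizer_iff.2 ?_
      rintro _ ⟨_, ⟨x', y', rfl⟩, rfl⟩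
      show e.symm (Qd.tr p x' y') * e.symm (Qd.tr p x y) = e.symm (Qd.tr p x y) * e.symm (Qd.tr p x' y')
      rw [← map_mul, ← map_mul, Qd.tr_mul, Qd.tr_mul, add_comm x', add_comm y'])
    rw [this]
    exact one_mem _
  have htop : J = ⊤ := Qd.eq_top_of_mem p htr hup fun x => by
    rw [show Qd.low p x = Qd.wgt p * Qd.up p (-x) * (Qd.wgt p)⁻¹ by rw [Qd.wgt_conj_up, neg_neg]]
    exact (inferInstance : J.Normal).conj_mem _ (hup _) _
  obtain ⟨k, hk⟩ := PReduced.isPGroup_pCore p ⟨f (Qd.sgn p), (htop ▸ Subgroup.mem_top _ : Qd.sgn p ∈ J)⟩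
  have hk' : f (Qd.sgn p ^ p ^ k) = 1 := by rw [map_pow]; exact congrArg Subtype.val hk
  obtain ⟨m, hm⟩ := ((Fact.out : p.Prime).odd_of_ne_two hp).pow (n := k)
  rw [hm, pow_succ, pow_mul, pow_two, Qd.sgn_sq, one_pow, one_mul] at hk'
  have hmem : e.symm (Qd.tr p 1 0) ∈ P := Subgroup.mem_map_of_mem _ (Qd.tr_mem p 1 0)
  have hsC : (⟨e.symm (Qd.sgn p), hmemN _⟩ : ↥N) ∈ C := (QuotientGroup.eq_one_iff _).1 hk'
  have hc : e.symm (Qd.tr p 1 0) * e.symm (Qd.sgn p) = e.symm (Qd.sgn p) * e.symm (Qd.tr p 1 0) :=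
    Subgroup.mem_centralizer_iff.1 (Subgroup.mem_subgroupOf.1 hsC) _ hmem
  have hc' : Qd.tr p 1 0 * Qd.sgn p = Qd.sgn p * Qd.tr p 1 0 := e.symm.injective (by
    rw [map_mul, map_mul]; exact hc)
  have hinv := Qd.sgn_conj_tr p 1 0
  rw [← hc', mul_inv_cancel_right, Qd.tr_inv, Qd.tr, Qd.tr, Qd.el_eq_iff] at hinv
  haveI : Fact (2 < p) := ⟨lt_of_le_of_ne (Fact.out : p.Prime).two_le (Ne.symm hp)⟩
  exact ZMod.neg_one_ne_one hinv.2.2.2.2.1.symm

end Cfsg.Agent.QdCrit
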